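import Groth.Agent.CurveVA.Converse
import Groth.Agent.S10867
import Groth.Agent.PnCoh.Chow.Proper
import Groth.Prelude.Def_ProjUP

/-!
# Closed immersions into projective space: separation of points and tangent vectors
-/

noncomputable section

set_option linter.style.haveILetI false
set_option linter.unusedSectionVars false
set_option backward.isDefEq.respectTransparency false
set_option backward.isDefEq.respectTransparency.types false

universe u

open CategoryTheory CategoryTheory.Limits AlgebraicGeometry TopologicalSpace Opposite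
open HomogeneousLocalization (Away)

namespace Groth.Agent.ProjImm

open Groth.Agent Groth.Agent.InvX Groth.Agent.H23 Groth.Agent.CurveVA

variable {k : Type u} [Field k] [IsAlgClosed k] {X : Scheme.{u}} [X.Over (Spec (CommRingCat.of k))]
  [IsProper (X ↘ Spec (CommRingCat.of k))]

local notation "pX" => X ↘ Spec (CommRingCat.of k)

section Module

variable {L : X.Modules}

/-- Membership in the multiples of an ideal, in the coordinate of a frame. -/
theorem mem_smul_top_iff {U : X.Opens} {e : Γ(L, U)} (he : IsFrame e) {x : X} (hx : x ∈ U)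
    (I : Ideal (X.presheaf.stalk x)) (m : L.presheaf.stalk x) :
    m ∈ I • (⊤ : Submodule (X.presheaf.stalk x) (L.presheaf.stalk x)) ↔ coord he hx m ∈ I := by
  constructor
  · intro h
    induction h using Submodule.smul_induction_on' with
    | smul a ha v _ => rw [coord_smul]; exact Ideal.mul_mem_right _ _ ha
    | add a _ b _ ha hb => rw [map_add]; exact add_mem ha hb
  · intro h
    obtain ⟨c, rfl⟩ := (he.germ_bijective hx).2 m
    simp only [coord_smul_germ] at h
    exact Submodule.smul_mem_smul h trivial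

variable (k)

theorem sc_eq (c : k) : sc (X := X) k c = ProjUP.toGlobal pX c := by
  show X.presheaf.map (𝟙 (op ⊤)) _ = _
  rw [CategoryTheory.Functor.map_id]
  rfl

theorem mem_locus_of_coord' {U : X.Opens} {e : Γ(L, U)} (he : IsFrame e) {x : X} (hx : x ∈ U) {z : Γ(L, ⊤)}
    (h : coord he hx (L.presheaf.germ ⊤ x trivial z) ∉ IsLocalRing.maximalIdeal (X.presheaf.stalk x)) :
    x ∈ TrivBasic.locus z := by
  obtain ⟨γ, hγ⟩ := he.exists_coord le_rfl (AModX.res L (le_top : U ≤ ⊤) z)
  rw [AModX.res_self] at hγ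
  have h2 : x ∈ TrivBasic.locus z ⊓ U := by
    rw [TrivBasic.locus_eq_basicOpen he hγ, X.mem_basicOpen _ x hx]
    rw [← InvX.germ_res' (le_top : U ≤ ⊤) hx z, hγ, QCoh.germ_smul', coord_smul_germ,
      IsLocalRing.mem_maximalIdeal] at h
    exact not_not.1 h
  exact h2.1

/-- The value of a function at a closed point. -/
def val' {U : X.Opens} {x : X} (hx : x ∈ U) (hc : IsClosed ({x} : Set X)) : Γ(X, U) →+* k :=
  ((resInv k hc).comp (X.residue x).hom).comp (X.presheaf.germ U x hx).hom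

theorem val'_sc {U : X.Opens} {x : X} (hx : x ∈ U) (hc : IsClosed ({x} : Set X)) (c : k) :
    val' k hx hc (AModX.resR (le_top : U ≤ ⊤) (sc k c)) = c := by
  show resInv k hc (X.residue x (X.presheaf.germ U x hx _)) = c
  rw [InvX.germ_resR' (le_top : U ≤ ⊤) hx, germ_sc]
  exact resInv_resMap k hc c

theorem sub_val'_mem {U : X.Opens} {x : X} (hx : x ∈ U) (hc : IsClosed ({x} : Set X)) (f : Γ(X, U)) (c : k) :
    X.presheaf.germ U x hx f - Curv2.stalkMap k X x c ∈ IsLocalRing.maximalIdeal (X.presheaf.stalk x) ↔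
      val' k hx hc f = c := by
  rw [← resInv_eq_zero k hc, map_sub, map_sub, sub_eq_zero,
    show X.residue x (Curv2.stalkMap k X x c) = Curv2.resMap k X x c from rfl, resInv_resMap]
  rfl

variable {k}
variable {ι : Type*} [Fintype ι]

/-- A combination of sections with constant coefficients. -/
def lin (s : ι → Γ(L, ⊤)) (c : ι → k) : Γ(L, ⊤) := ∑ j, ProjUP.toGlobal pX (c j) • s j

theorem lin_two [DecidableEq ι] (s : ι → Γ(L, ⊤)) (j l : ι) (a : k) :
    lin s (Pi.single l 1 - a • Pi.single j 1) = s l - sc (X := X) k a • s j := by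
  rw [sc_eq]
  simp only [lin, Pi.sub_apply, Pi.smul_apply, smul_eq_mul, map_sub, map_mul, sub_smul, Finset.sum_sub_distrib]
  rw [Finset.sum_eq_single l (fun b _ hb => by simp [hb]) (by simp),
    Finset.sum_eq_single j (fun b _ hb => by simp [hb]) (by simp)]
  simp

theorem lin_one [DecidableEq ι] (s : ι → Γ(L, ⊤)) (j : ι) :
    lin (k := k) s (Pi.single j 1) = s j := by
  rw [lin, Finset.sum_eq_single j (fun b _ hb => by simp [hb]) (by simp)]
  simp

/-- Separation of points. -/
def Sep (L : X.Modules) (s : ι → Γ(L, ⊤)) : Prop :=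
  ∀ P Q : ↥X, IsClosed ({P} : Set ↥X) → IsClosed ({Q} : Set ↥X) → P ≠ Q → ∃ c : ι → k,
    (L.presheaf.germ ⊤ P trivial).hom (∑ j, ProjUP.toGlobal pX (c j) • s j) ∈
      IsLocalRing.maximalIdeal ↑(X.presheaf.stalk P) • (⊤ : Submodule ↑(X.presheaf.stalk P) ↑(L.presheaf.stalk P)) ∧
    (L.presheaf.germ ⊤ Q trivial).hom (∑ j, ProjUP.toGlobal pX (c j) • s j) ∉
      IsLocalRing.maximalIdeal ↑(X.presheaf.stalk Q) • (⊤ : Submodule ↑(X.presheaf.stalk Q) ↑(L.presheaf.stalk Q))

/-- Separation of tangent vectors. -/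
def Tan (L : X.Modules) (s : ι → Γ(L, ⊤)) : Prop :=
  ∀ P : ↥X, IsClosed ({P} : Set ↥X) →
    IsLocalRing.maximalIdeal ↑(X.presheaf.stalk P) • (⊤ : Submodule ↑(X.presheaf.stalk P) ↑(L.presheaf.stalk P)) ≤
      Submodule.span ↑(X.presheaf.stalk P)
          {v | ∃ c : ι → k, v = (L.presheaf.germ ⊤ P trivial).hom (∑ j, ProjUP.toGlobal pX (c j) • s j) ∧
            v ∈ IsLocalRing.maximalIdeal ↑(X.presheaf.stalk P) •
              (⊤ : Submodule ↑(X.presheaf.stalk P) ↑(L.presheaf.stalk P))} ⊔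
        IsLocalRing.maximalIdeal ↑(X.presheaf.stalk P) ^ 2 •
          (⊤ : Submodule ↑(X.presheaf.stalk P) ↑(L.presheaf.stalk P))

variable {s : ι → Γ(L, ⊤)} {U : ι → X.Opens} {γ : ∀ j, ι → Γ(X, U j)}

theorem coord_lin_two [DecidableEq ι] (G : Gen k L s U γ) {j l : ι} {x : X} (hx : x ∈ U j) (a : k) :
    coord (TrivBasic.isFrame_res_of_le_locus (G.locus_eq j).le) hx
        (L.presheaf.germ ⊤ x trivial (lin s (Pi.single l 1 - a • Pi.single j 1))) =
      X.presheaf.germ _ x hx (γ j l) - Curv2.stalkMap k X x a := by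
  rw [lin_two, map_sub, map_sub]
  congr 1
  · rw [← InvX.germ_res' (le_top : U j ≤ ⊤) hx (s l), congrArg (L.presheaf.germ _ x hx) (G.res_eq j l),
      QCoh.germ_smul']
    exact coord_smul_germ _ hx _
  · rw [QCoh.germ_smul' L (U := ⊤) (hx := (trivial : x ∈ (⊤ : X.Opens))), germ_sc,
      ← InvX.germ_res' (le_top : U j ≤ ⊤) hx (s j)]
    exact coord_smul_germ _ hx _

theorem sep_of_gen (G : Gen k L s U γ) : Sep (k := k) L s := by
  classical
  intro a b hac hbc hne
  have hF : ∀ j, IsFrame (AModX.res L (le_top : U j ≤ ⊤) (s j)) := fun j =>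
    TrivBasic.isFrame_res_of_le_locus (G.locus_eq j).le
  obtain ⟨j, hjb⟩ := G.cover b
  obtain ⟨ja, hjaa⟩ := G.cover a
  by_cases hja : a ∈ U j
  · suffices h : ∃ l, val' k hja hac (γ j l) ≠ val' k hjb hbc (γ j l) by
      obtain ⟨l, hl⟩ := h
      refine ⟨Pi.single l 1 - val' k hja hac (γ j l) • Pi.single j 1,
        (mem_smul_top_iff (hF j) hja _ _).2 ?_, fun h => hl ?_⟩
      · show coord _ _ (L.presheaf.germ ⊤ a trivial (lin s _)) ∈ _
        rw [coord_lin_two G]
        exact (sub_val'_mem k hja hac _ _).2 rfl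
      · have h1 : coord (hF j) hjb (L.presheaf.germ ⊤ b trivial
            (lin s (Pi.single l 1 - val' k hja hac (γ j l) • Pi.single j 1))) ∈ _ :=
          (mem_smul_top_iff (hF j) hjb _ _).1 h
        rw [coord_lin_two G] at h1
        exact ((sub_val'_mem k hjb hbc _ _).1 h1).symm
    by_contra! hall
    have htop := G.gen j (RingHom.eqLocus (val' k hja hac) (val' k hjb hbc))
      (fun c => (val'_sc k hja hac c).trans (val'_sc k hjb hbc c).symm) hall
    obtain ⟨f, hf, hbf⟩ := (G.affine j).exists_basicOpen_le (V := ⟨({a} : Set X)ᶜ, hac.isOpen_compl⟩)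
      ⟨b, hne.symm⟩ hjb
    have haf : a ∉ X.basicOpen f := fun h => hf h rfl
    have h0 : val' k hja hac f = 0 := by
      rw [X.mem_basicOpen _ a hja] at haf
      exact (resInv_eq_zero k hac _).2 ((IsLocalRing.mem_maximalIdeal _).2 haf)
    have h0' : val' k hjb hbc f ≠ 0 := fun h => by
      rw [X.mem_basicOpen _ b hjb] at hbf
      exact (IsLocalRing.mem_maximalIdeal _).1 ((resInv_eq_zero k hbc _).1 h) hbf
    exact h0' ((show f ∈ RingHom.eqLocus (val' k hja hac) (val' k hjb hbc) from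
      htop ▸ Subring.mem_top f).symm.trans h0)
  · refine ⟨Pi.single j 1, (mem_smul_top_iff (hF ja) hjaa _ _).2 ?_, fun h => ?_⟩
    · show coord _ _ (L.presheaf.germ ⊤ a trivial (lin s _)) ∈ _
      rw [lin_one]
      by_contra h
      exact hja ((G.locus_eq j).ge (mem_locus_of_coord' (hF ja) hjaa h))
    · have h1 : coord (hF j) hjb (L.presheaf.germ ⊤ b trivial (lin (k := k) s (Pi.single j 1))) ∈ _ :=
        (mem_smul_top_iff (hF j) hjb _ _).1 h
      rw [lin_one, ← InvX.germ_res' (le_top : U j ≤ ⊤) hjb (s j),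
        ← one_smul (X.presheaf.stalk b) (L.presheaf.germ _ b hjb _), coord_smul_germ] at h1
      exact IsLocalRing.maximalIdeal.isMaximal _ |>.ne_top ((Ideal.eq_top_iff_one _).2 h1)

theorem tan_of_gen (G : Gen k L s U γ) : Tan (k := k) L s := by
  classical
  intro a hac
  obtain ⟨j, hja⟩ := G.cover a
  have hF : IsFrame (AModX.res L (le_top : U j ≤ ⊤) (s j)) :=
    TrivBasic.isFrame_res_of_le_locus (G.locus_eq j).le
  set 𝔪 := IsLocalRing.maximalIdeal (X.presheaf.stalk a)
  set N : Ideal (X.presheaf.stalk a) :=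
    Ideal.span (Set.range fun l => X.presheaf.germ _ a hja (γ j l) - Curv2.stalkMap k X a (val' k hja hac (γ j l)))
  have hN : N ≤ 𝔪 := Ideal.span_le.2 (by
    rintro _ ⟨l, rfl⟩
    exact (sub_val'_mem k hja hac _ _).2 rfl)
  have hNmem : ∀ l, X.presheaf.germ _ a hja (γ j l) - Curv2.stalkMap k X a (val' k hja hac (γ j l)) ∈ N :=
    fun l => Ideal.subset_span (Set.mem_range_self l)
  have hall : 𝔪 ≤ N := by
    let q : Γ(X, U j) →+* X.presheaf.stalk a ⧸ N :=
      (Ideal.Quotient.mk N).comp (X.presheaf.germ _ a hja).hom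
    have htop := G.gen j
      (((Ideal.Quotient.mk N).comp (Curv2.stalkMap k X a)).range.comap q)
      (fun c => ⟨c, by
        show Ideal.Quotient.mk N _ = Ideal.Quotient.mk N (X.presheaf.germ _ a hja _)
        rw [InvX.germ_resR' (le_top : U j ≤ ⊤) hja, germ_sc]⟩)
      (fun l => ⟨val' k hja hac (γ j l), by
        show Ideal.Quotient.mk N _ = Ideal.Quotient.mk N (X.presheaf.germ _ a hja _)
        exact (Ideal.Quotient.eq.2 (hNmem l)).symm⟩)
    intro x hx
    let haff : IsAffineOpen (U j) := G.affine j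
    letI : Algebra Γ(X, U j) (X.presheaf.stalk a) := TopCat.Presheaf.algebra_section_stalk X.presheaf ⟨a, hja⟩
    haveI := haff.isLocalization_stalk ⟨a, hja⟩
    obtain ⟨⟨f, g⟩, hfg⟩ := IsLocalization.surj (haff.primeIdealOf ⟨a, hja⟩).asIdeal.primeCompl x
    have hgu : IsUnit (X.presheaf.germ _ a hja (g : Γ(X, U j))) :=
      IsLocalization.map_units (X.presheaf.stalk a) g
    have hfm : X.presheaf.germ _ a hja f ∈ 𝔪 :=
      (show X.presheaf.germ _ a hja f = _ from hfg.symm) ▸ Ideal.mul_mem_right _ _ hx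
    obtain ⟨c, hc⟩ := (htop ▸ Subring.mem_top f :
      f ∈ ((Ideal.Quotient.mk N).comp (Curv2.stalkMap k X a)).range.comap q)
    have hcN : X.presheaf.germ _ a hja f - Curv2.stalkMap k X a c ∈ N := Ideal.Quotient.eq.1 hc.symm
    have hcm : Curv2.stalkMap k X a c ∈ 𝔪 := by
      simpa using sub_mem hfm (hN hcN)
    have hc0 : c = 0 := by
      by_contra h
      exact (IsLocalRing.mem_maximalIdeal _).1 hcm ((isUnit_iff_ne_zero.2 h).map _)
    rw [hc0, map_zero, sub_zero] at hcN
    exact (Ideal.mul_unit_mem_iff_mem _ hgu).1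
      ((show x * X.presheaf.germ _ a hja (g : Γ(X, U j)) = _ from hfg) ▸ hcN)
  rw [Submodule.smul_le]
  intro r hr v _
  refine Submodule.mem_sup_left ?_
  have hN' := hall hr
  clear hr
  induction hN' using Submodule.span_induction with
  | zero => rw [zero_smul]; exact zero_mem _
  | add x y _ _ hx hy => rw [add_smul]; exact add_mem hx hy
  | smul c x _ hx => rw [smul_eq_mul, mul_smul]; exact Submodule.smul_mem _ c hx
  | mem x hx =>
    obtain ⟨l, rfl⟩ := hx
    obtain ⟨c, rfl⟩ := (hF.germ_bijective hja).2 v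
    rw [smul_comm]
    refine Submodule.smul_mem _ c (Submodule.subset_span ⟨Pi.single l 1 - val' k hja hac (γ j l) • Pi.single j 1, ?_,
      (mem_smul_top_iff hF hja _ _).2 ?_⟩)
    · show _ = L.presheaf.germ ⊤ a trivial (lin s _)
      obtain ⟨d, hd⟩ := (hF.germ_bijective hja).2
        (L.presheaf.germ ⊤ a trivial (lin s (Pi.single l 1 - val' k hja hac (γ j l) • Pi.single j 1)))
      refine Eq.trans ?_ hd
      show _ • _ = d • _
      congr 1
      rw [← coord_smul_germ hF hja d, show d • _ = _ from hd, coord_lin_two G]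
    · rw [coord_smul_germ]
      exact (sub_val'_mem k hja hac _ _).2 rfl

end Module

section ProjSpace

variable {n : ℕ} (f : X ⟶ CohB1.ProjSpace n k) (hf : f ≫ CohB1.ProjSpace.toSpec n k = X ↘ Spec (CommRingCat.of k))

set_option quotPrecheck false in
local notation "LL" => (Scheme.Modules.pullback f).obj (Twist.twistProjSpace n k 1)
set_option quotPrecheck false in
local notation "ss" => fun j : Fin (n + 1) => ProjUP.pullSec f (Twist.twistProjSpace n k 1) (ProjUP.coord n k j)


theorem isFrame_σ' {L : X.Modules} (τ : (Scheme.Modules.pullback f).obj (Twist.twistProjSpace n k 1) ≅ L)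
    (j : Fin (n + 1)) : IsFrame (AModX.res L (le_top : Uc k f j ≤ ⊤) (σ k f τ j)) :=
  TrivBasic.isFrame_res_of_le_locus (AmpleEmbed.preimage_chart f τ j rfl).le

theorem exists_mem_Uc' (x : X) : ∃ j, x ∈ Uc k f j :=
  (Opens.mem_iSup.1 (show f x ∈ ⨆ i, Proj.basicOpen (CohB1.polyGrading n k) (MvPolynomial.X i) from
    (AmpleEmbed.iSup_basicOpen_X n k).ge trivial)).imp fun _ h => h

theorem res_σ' {L : X.Modules} (τ : (Scheme.Modules.pullback f).obj (Twist.twistProjSpace n k 1) ≅ L)
    (j l : Fin (n + 1)) : AModX.res L (le_top : Uc k f j ≤ ⊤) (σ k f τ l) =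
      β k f j l • AModX.res L (le_top : Uc k f j ≤ ⊤) (σ k f τ j) := by
  obtain ⟨b, hb⟩ := (isFrame_σ' f τ j).exists_coord le_rfl (AModX.res L le_top (σ k f τ l))
  rw [AModX.res_self] at hb
  refine hb.trans (congrArg (· • _) ?_)
  exact (AmpleEmbed.ratioOf_eq f τ j l rfl rfl le_rfl b hb).symm

include hf in
/-- The restriction of a combination of the coordinates to a chart comes from the chart. -/
theorem exists_res_lin (i : Fin (n + 1)) (c : Fin (n + 1) → k) :
    ∃ ρ : Γ(CohB1.ProjSpace n k, Proj.basicOpen (CohB1.polyGrading n k) (MvPolynomial.X i)),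
      AModX.res LL (le_top : Uc k f i ≤ ⊤) (lin (k := k) ss c) =
        (show Γ(X, Uc k f i) from f.app _ ρ) • AModX.res LL (le_top : Uc k f i ≤ ⊤) (σ k f (Iso.refl LL) i) := by
  let D : (CohB1.ProjSpace n k).Opens := Proj.basicOpen (CohB1.polyGrading n k) (MvPolynomial.X i)
  refine ⟨∑ j, (show Γ(CohB1.ProjSpace n k, D) from (CohB1.ProjSpace.toSpec n k).appLE ⊤ D le_top ((Scheme.ΓSpecIso (CommRingCat.of k)).inv (c j))) *
    (show Γ(CohB1.ProjSpace n k, D) from (Proj.awayToSection (CohB1.polyGrading n k) (MvPolynomial.X i)).hom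
      (Away.mk (CohB1.polyGrading n k) (ProjPt.X_mem i) 1 (MvPolynomial.X j) (by rw [one_smul]; exact ProjPt.X_mem j))), ?_⟩
  unfold lin
  rw [map_sum]
  show _ = (show Γ(X, Uc k f i) from f.app D (∑ j, _)) • _
  rw [map_sum, Finset.sum_smul]
  refine Finset.sum_congr rfl fun j _ => ?_
  rw [AModX.res_smul, map_mul, mul_smul,
    show AModX.res LL (le_top : Uc k f i ≤ ⊤) (ss j) = β k f i j • _ from res_σ' f (Iso.refl LL) i j]
  have h1 : AModX.resR (le_top : Uc k f i ≤ ⊤) (ProjUP.toGlobal pX (c j)) =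
      f.app D ((CohB1.ProjSpace.toSpec n k).appLE ⊤ D le_top ((Scheme.ΓSpecIso (CommRingCat.of k)).inv (c j))) := by
    rw [← Scheme.Hom.appLE_eq_app, ← CommRingCat.comp_apply, Scheme.Hom.appLE_comp_appLE]
    have hg : ∀ g : X ⟶ Spec (CommRingCat.of k), g = pX → ∀ e : Uc k f i ≤ g ⁻¹ᵁ ⊤,
        AModX.resR (le_top : Uc k f i ≤ ⊤) (ProjUP.toGlobal pX (c j)) =
          g.appLE ⊤ (Uc k f i) e ((Scheme.ΓSpecIso (CommRingCat.of k)).inv (c j)) := by
      intro g hg e; subst hg; rfl
    exact hg _ hf _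
  have h2 : β k f i j = f.app D ((Proj.awayToSection (CohB1.polyGrading n k) (MvPolynomial.X i)).hom
      (Away.mk (CohB1.polyGrading n k) (ProjPt.X_mem i) 1 (MvPolynomial.X j) (by rw [one_smul]; exact ProjPt.X_mem j))) := by
    rw [← Scheme.Hom.appLE_eq_app]
    rfl
  rw [h1, h2]

include hf in
theorem isProper_of_comp_toSpec : IsProper f := by
  haveI : IsProper (CohB1.ProjSpace.toSpec n k) := PnCoh.Chow.isProper_toSpec n k
  haveI : IsProper (f ≫ CohB1.ProjSpace.toSpec n k) := hf ▸ ‹IsProper pX›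
  exact IsProper.of_comp f (CohB1.ProjSpace.toSpec n k)

include hf in
theorem isClosedImmersion_of_sep_tan
    (hsep : ∀ P Q : ↥X, IsClosed ({P} : Set ↥X) → IsClosed ({Q} : Set ↥X) → P ≠ Q → ∃ c : Fin (n + 1) → k,
      ¬ (((LL).presheaf.germ ⊤ P trivial).hom (lin (k := k) ss c) ∈
        IsLocalRing.maximalIdeal ↑(X.presheaf.stalk P) • (⊤ : Submodule ↑(X.presheaf.stalk P) ↑((LL).presheaf.stalk P)) ↔
      ((LL).presheaf.germ ⊤ Q trivial).hom (lin (k := k) ss c) ∈
        IsLocalRing.maximalIdeal ↑(X.presheaf.stalk Q) • (⊤ : Submodule ↑(X.presheaf.stalk Q) ↑((LL).presheaf.stalk Q))))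
    (htan : Tan (k := k) LL ss) : IsClosedImmersion f := by
  haveI := isProper_of_comp_toSpec f hf
  haveI : IsProper (CohB1.ProjSpace.toSpec n k) := PnCoh.Chow.isProper_toSpec n k
  haveI : LocallyOfFiniteType (f ≫ CohB1.ProjSpace.toSpec n k) := by rw [hf]; infer_instance
  have key : ∀ (x : X) (i : Fin (n + 1)) (hxi : x ∈ Uc k f i) (c : Fin (n + 1) → k),
      ∃ ρ : Γ(CohB1.ProjSpace n k, Proj.basicOpen (CohB1.polyGrading n k) (MvPolynomial.X i)),
      coord (isFrame_σ' f (Iso.refl LL) i) hxi ((LL).presheaf.germ ⊤ x trivial (lin (k := k) ss c)) =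
        f.stalkMap x ((CohB1.ProjSpace n k).presheaf.germ _ (f x) hxi ρ) := fun x i hxi c => by
    obtain ⟨ρ, hρ⟩ := exists_res_lin f hf i c
    refine ⟨ρ, ?_⟩
    rw [← InvX.germ_res' (le_top : Uc k f i ≤ ⊤) hxi (lin (k := k) ss c), hρ, QCoh.germ_smul', coord_smul_germ,
      Scheme.Hom.germ_stalkMap_apply]
    rfl
  have hloc : ∀ (x : X) (r : (CohB1.ProjSpace n k).presheaf.stalk (f x)),
      f.stalkMap x r ∈ IsLocalRing.maximalIdeal (X.presheaf.stalk x) ↔
        r ∈ IsLocalRing.maximalIdeal ((CohB1.ProjSpace n k).presheaf.stalk (f x)) := fun x r => by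
    rw [IsLocalRing.mem_maximalIdeal, IsLocalRing.mem_maximalIdeal, mem_nonunits_iff, mem_nonunits_iff,
      isUnit_map_iff (f.stalkMap x).hom r]
  refine S10867.result k f (CohB1.ProjSpace.toSpec n k) (fun a ha b hb hab => ?_) fun a ha => ?_
  · by_contra hne
    obtain ⟨c, hc⟩ := hsep a b ha hb hne
    obtain ⟨i, hai⟩ := exists_mem_Uc' f a
    have hbi : b ∈ Uc k f i := by
      show f b ∈ Proj.basicOpen (CohB1.polyGrading n k) (MvPolynomial.X i)
      rw [← (hab : f a = f b)]
      exact hai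
    obtain ⟨ρ, hρ⟩ := exists_res_lin f hf i c
    apply hc
    rw [mem_smul_top_iff (isFrame_σ' f (Iso.refl LL) i) hai, mem_smul_top_iff (isFrame_σ' f (Iso.refl LL) i) hbi]
    have hval : ∀ (x : X) (hx : x ∈ Uc k f i),
        (coord (isFrame_σ' f (Iso.refl LL) i) hx ((LL).presheaf.germ ⊤ x trivial (lin (k := k) ss c)) ∈
          IsLocalRing.maximalIdeal (X.presheaf.stalk x)) ↔
        f x ∉ (CohB1.ProjSpace n k).basicOpen ρ := fun x hx => by
      rw [← InvX.germ_res' (le_top : Uc k f i ≤ ⊤) hx (lin (k := k) ss c), hρ, QCoh.germ_smul', coord_smul_germ,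
        (CohB1.ProjSpace n k).mem_basicOpen _ (f x) hx, IsLocalRing.mem_maximalIdeal, mem_nonunits_iff,
        show X.presheaf.germ _ x hx (show Γ(X, Uc k f i) from f.app _ ρ) =
          f.stalkMap x ((CohB1.ProjSpace n k).presheaf.germ _ (f x) hx ρ) from
          (Scheme.Hom.germ_stalkMap_apply f _ x hx ρ).symm]
      exact not_congr (isUnit_map_iff (f.stalkMap x).hom _)
    refine (hval a hai).trans (Iff.trans ?_ (hval b hbi).symm)
    rw [(hab : f a = f b)]
  · set M := Ideal.map (f.stalkMap a).hom (IsLocalRing.maximalIdeal ((CohB1.ProjSpace n k).presheaf.stalk (f a))) with hM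
    refine le_antisymm (sup_le ?_ (Ideal.pow_le_self two_ne_zero)) ?_
    · rw [Ideal.map_le_iff_le_comap]
      exact fun r hr => (hloc a r).2 hr
    intro r hr
    obtain ⟨i, hai⟩ := exists_mem_Uc' f a
    set hF := isFrame_σ' f (Iso.refl LL) i
    have h1 := htan a ha (Submodule.smul_mem_smul hr (Submodule.mem_top
      (x := (LL).presheaf.germ _ a hai (AModX.res LL (le_top : Uc k f i ≤ ⊤) (σ k f (Iso.refl LL) i)))))
    have hle : Submodule.span ↑(X.presheaf.stalk a)
          {v | ∃ c : Fin (n + 1) → k, v = ((LL).presheaf.germ ⊤ a trivial).hom (∑ j, ProjUP.toGlobal pX (c j) • ss j) ∧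
            v ∈ IsLocalRing.maximalIdeal ↑(X.presheaf.stalk a) •
              (⊤ : Submodule ↑(X.presheaf.stalk a) ↑((LL).presheaf.stalk a))} ⊔
        IsLocalRing.maximalIdeal ↑(X.presheaf.stalk a) ^ 2 •
          (⊤ : Submodule ↑(X.presheaf.stalk a) ↑((LL).presheaf.stalk a)) ≤
        (M ⊔ IsLocalRing.maximalIdeal ↑(X.presheaf.stalk a) ^ 2) •
          (⊤ : Submodule ↑(X.presheaf.stalk a) ↑((LL).presheaf.stalk a)) := by
      refine sup_le (Submodule.span_le.2 ?_) (Submodule.smul_mono_left le_sup_right)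
      rintro v ⟨c, rfl, hv⟩
      obtain ⟨ρ, hρ⟩ := key a i hai c
      refine (mem_smul_top_iff hF hai _ _).2 ?_
      have hv' : coord hF hai ((LL).presheaf.germ ⊤ a trivial (lin (k := k) ss c)) ∈
          IsLocalRing.maximalIdeal (X.presheaf.stalk a) := (mem_smul_top_iff hF hai _ _).1 hv
      rw [hρ, hloc] at hv'
      show coord hF hai ((LL).presheaf.germ ⊤ a trivial (lin (k := k) ss c)) ∈ _
      rw [hρ]
      exact Ideal.mem_sup_left (Ideal.mem_map_of_mem _ hv')
    have h2 := (mem_smul_top_iff hF hai _ _).1 (hle h1)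
    rwa [coord_smul_germ] at h2

include hf in
theorem sep_of_isClosedImmersion [IsClosedImmersion f] : Sep (k := k) LL ss :=
  sep_of_gen (gen_of_isClosedImmersion k f hf (Iso.refl LL))

include hf in
theorem tan_of_isClosedImmersion [IsClosedImmersion f] : Tan (k := k) LL ss :=
  tan_of_gen (gen_of_isClosedImmersion k f hf (Iso.refl LL))

end ProjSpace

end Groth.Agent.ProjImm
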